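import Cfsg.Agent.H860.JM.Geom
import Cfsg.Agent.H858.MLoc

/-!
# The 2-local geometry of the group `Spor.J4`, and the statements of Part III
-/

set_option autoImplicit false

open Cfsg

namespace Cfsg.Agent.H860.JM

/-- the group `Spor.J4` -/
local notation "𝒢" => Cfsg.Spor.J4

/-- the geometry of `Spor.J4`: 2A = the class of `s`, 2B = the class of `d`, points = the conjugates
of `EJ`, lines = the conjugates of `Loc7.Z`, `Xc` = the self-centralizing groups `2^10` -/
noncomputable def geo : Geom 𝒢 where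
  A u := IsConj Cfsg.Agent.J4.Invol.s u
  B u := IsConj Cfsg.Agent.J4.Invol.d u
  Pt P := ∃ g, P = cj g Cfsg.Agent.J4.Invol.EJ
  Ln D := ∃ g, D = cj g Cfsg.Agent.H858.Loc7.Z
  Xc X := IsElementaryAbelian 2 X ∧ Nat.card X = 2 ^ 10 ∧ Subgroup.centralizer (X : Set 𝒢) = X

/-- the situation of Part III: `M` maximal, `S ≤ M` a nonabelian simple group with
`M ≤ N(S)` and `C(S) = 1` -/
structure NL (M S : Subgroup 𝒢) : Prop where
  coatom : IsCoatom M
  le : S ≤ M
  norm : M ≤ Subgroup.normalizer (S : Set 𝒢)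
  simple : IsSimpleGroup S
  nab : ¬ IsMulCommutative S
  cent : Subgroup.centralizer (S : Set 𝒢) = ⊥

/-- (Part III, excluded groups) no maximal subgroup has socle isomorphic to `T` -/
def Excl (T : Type) [Group T] : Prop := ∀ M S : Subgroup 𝒢, NL M S → ¬ Nonempty (S ≃* T)

/-- (Part III, one class) two maximal subgroups with socle isomorphic to `T` are conjugate -/
def OneCl (T : Type) [Group T] : Prop := ∀ M S M' S' : Subgroup 𝒢, NL M S → NL M' S' →
  Nonempty (S ≃* T) → Nonempty (S' ≃* T) → ∃ g : 𝒢, M' = cj g M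

end Cfsg.Agent.H860.JM
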