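import Mathlib.GroupTheory.Sylow
import Mathlib.GroupTheory.PGroup
import Mathlib.GroupTheory.Subgroup.Centralizer

/-!
# The 2-local geometry of `J4`: abstract form

`A`, `B`: the two classes of involutions (2A, 2B); `Pt`: the "points" (the conjugates of `2^11`);
`Ln`: the "lines" (the conjugates of the centre of `2^(3+12)`, order 8); `Xc`: the conjugates of the
self-centralizing `2^10`.
The facts `F0` to `F18` are what the classification of the maximal 2-local subgroups uses.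
-/

set_option autoImplicit false

namespace Cfsg.Agent.H860.JM

variable {G : Type*} [Group G]

/-- the conjugate `g H g⁻¹` -/
abbrev cj (g : G) (H : Subgroup G) : Subgroup G := H.map (MulAut.conj g).toMonoidHom

/-- the data of the geometry -/
structure Geom (G : Type*) [Group G] where
  A : G → Prop
  B : G → Prop
  Pt : Subgroup G → Prop
  Ln : Subgroup G → Prop
  Xc : Subgroup G → Prop

variable (Γ : Geom G)

/-- the four possible conclusions: `M` is in one of the four maximal 2-local subgroups -/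
def Good (M : Subgroup G) : Prop :=
  (∃ z, Γ.A z ∧ M ≤ Subgroup.centralizer {z}) ∨
  (∃ P, Γ.Pt P ∧ M ≤ Subgroup.normalizer (P : Set G)) ∨
  (∃ D, Γ.Ln D ∧ M ≤ Subgroup.normalizer (D : Set G)) ∨
  (∃ X, Γ.Xc X ∧ M ≤ Subgroup.normalizer (X : Set G))

/-- `E` is an elementary abelian 2-group -/
structure El (E : Subgroup G) : Prop where
  sq : ∀ a ∈ E, a * a = 1
  comm : ∀ a ∈ E, ∀ b ∈ E, a * b = b * a

/-- (type a) `z` and `w` are in a common line -/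
def TyA (z w : G) : Prop := ∃ D, Γ.Ln D ∧ z ∈ D ∧ w ∈ D

/-- `F_w` at the point `P`: the `v ∈ C_P(w)` such that `⟨v, w⟩` is pure 2A (and `v = 1`) -/
def Fs (P : Subgroup G) (w : G) : Set G :=
  {v | v ∈ P ∧ v * w = w * v ∧ (v = 1 ∨ (Γ.A v ∧ Γ.A (v * w)))}

/-- `w` is a 2A involution in `N(P)` outside `P` -/
structure Act (P : Subgroup G) (w : G) : Prop where
  mem : w ∈ Subgroup.normalizer (P : Set G)
  not_mem : w ∉ P
  A : Γ.A w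

/-- kind A at `P` -/
structure KA (P : Subgroup G) (w : G) : Prop where
  act : Act Γ P w
  card : (Fs Γ P w).ncard = 8
  tyA : ∀ v ∈ Fs Γ P w, TyA Γ v w
  pt : ∀ v ∈ Fs Γ P w, ∀ v' ∈ Fs Γ P w, ∃ P', Γ.Pt P' ∧ v ∈ P' ∧ v' ∈ P' ∧ w ∈ P'
  mul : ∀ v ∈ Fs Γ P w, ∀ v' ∈ Fs Γ P w, v * v' ∈ Fs Γ P w

/-- `x` is a nontrivial element of `F_w` of type a with `w` -/
structure IsX (P : Subgroup G) (w x : G) : Prop where
  mem : x ∈ Fs Γ P w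
  ne : x ≠ 1
  tyA : TyA Γ x w

/-- kind B at `P` -/
structure KB (P : Subgroup G) (w : G) : Prop where
  act : Act Γ P w
  card : (Fs Γ P w).ncard = 32
  ex : ∃ x, IsX Γ P w x ∧ (∀ y, IsX Γ P w y → y = x) ∧ ∀ v ∈ Fs Γ P w, TyA Γ x v

/-- `F_w ∪ w F_w` -/
def Ws (P : Subgroup G) (w : G) : Set G := {u | u ∈ Fs Γ P w ∨ w * u ∈ Fs Γ P w}

/-- (F0) centralizers of involutions have a normal 2-subgroup containing its centralizer -/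
def F0 : Prop := ∀ e, (Γ.A e ∨ Γ.B e) → ∃ R : Subgroup G, IsPGroup 2 R ∧
  R ≤ Subgroup.centralizer {e} ∧ Subgroup.centralizer {e} ≤ Subgroup.normalizer (R : Set G) ∧
  Subgroup.centralizer (R : Set G) ≤ R

/-- (F1) the classes, conjugation -/
structure F1 : Prop where
  invol : ∀ u, u ≠ 1 → u * u = 1 → Γ.A u ∨ Γ.B u
  A_inv : ∀ u, Γ.A u → u ≠ 1 ∧ u * u = 1
  B_inv : ∀ u, Γ.B u → u ≠ 1 ∧ u * u = 1
  disj : ∀ u, Γ.A u → ¬ Γ.B u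
  A_conj : ∀ g u, Γ.A u → Γ.A (g * u * g⁻¹)
  B_conj : ∀ g u, Γ.B u → Γ.B (g * u * g⁻¹)
  Pt_conj : ∀ g P, Γ.Pt P → Γ.Pt (cj g P)
  Ln_conj : ∀ g D, Γ.Ln D → Γ.Ln (cj g D)
  Xc_conj : ∀ g X, Γ.Xc X → Γ.Xc (cj g X)

/-- (F2) a 2-subgroup normalizes a point -/
def F2 : Prop := ∀ Q : Subgroup G, IsPGroup 2 Q → ∃ P, Γ.Pt P ∧ Q ≤ Subgroup.normalizer (P : Set G)

/-- (F3) points and the groups `X` -/
structure F3 : Prop where
  el : ∀ P, Γ.Pt P → El P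
  card : ∀ P, Γ.Pt P → Nat.card P = 2 ^ 11
  self : ∀ P, Γ.Pt P → Subgroup.centralizer (P : Set G) = P
  exA : ∀ u, Γ.A u → ∃ P, Γ.Pt P ∧ u ∈ P
  elX : ∀ X, Γ.Xc X → El X
  cardX : ∀ X, Γ.Xc X → Nat.card X = 2 ^ 10
  selfX : ∀ X, Γ.Xc X → Subgroup.centralizer (X : Set G) = X

/-- (F4) a 2B element is in exactly one point and its centralizer normalizes it -/
def F4 : Prop := ∀ t, Γ.B t → ∃ P, Γ.Pt P ∧ t ∈ P ∧ (∀ P', Γ.Pt P' → t ∈ P' → P' = P) ∧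
  Subgroup.centralizer {t} ≤ Subgroup.normalizer (P : Set G)

/-- (F5) two points intersect in 1, in a group of order 2 (of class 2A) or in a line -/
def F5 : Prop := ∀ P P', Γ.Pt P → Γ.Pt P' → P ≠ P' → P ⊓ P' = ⊥ ∨
  (∃ z, Γ.A z ∧ ∀ x, x ∈ P ⊓ P' ↔ x = 1 ∨ x = z) ∨ Γ.Ln (P ⊓ P')

/-- (F6) lines -/
structure F6 : Prop where
  card : ∀ D, Γ.Ln D → Nat.card D = 8
  pure : ∀ D, Γ.Ln D → ∀ u ∈ D, u ≠ 1 → Γ.A u
  uniq : ∀ D D', Γ.Ln D → Γ.Ln D' → ∀ u v : G, u ≠ 1 → v ≠ 1 → u ≠ v →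
    u ∈ D → v ∈ D → u ∈ D' → v ∈ D' → D = D'
  five : ∀ D, Γ.Ln D → {P | Γ.Pt P ∧ D ≤ P}.ncard = 5
  le : ∀ D P, Γ.Ln D → Γ.Pt P → ∀ u v : G, u ≠ 1 → v ≠ 1 → u ≠ v →
    u ∈ D → v ∈ D → u ∈ P → v ∈ P → D ≤ P

/-- (F7) the generators of a pure 2A four-group are in a common point -/
def F7 : Prop := ∀ z w, Γ.A z → Γ.A w → z * w = w * z → Γ.A (z * w) → ∃ P, Γ.Pt P ∧ z ∈ P ∧ w ∈ P

/-- (F9) the two kinds of 2A elements in `N(P)` outside `P` -/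
structure F9 : Prop where
  kind : ∀ P w, Γ.Pt P → Act Γ P w → KA Γ P w ∨ KB Γ P w
  same : ∀ P w w', Γ.Pt P → KA Γ P w → KA Γ P w' → Fs Γ P w = Fs Γ P w' → w⁻¹ * w' ∈ P
  x_eq : ∀ P w w' x x', Γ.Pt P → KB Γ P w → KB Γ P w' → w⁻¹ * w' ∈ P → IsX Γ P w x →
    IsX Γ P w' x' → x = x'

/-- (F11) `E` pure 2A in `N(P)`, not in `P`, with a type b pair in `P`: the elements `x_w` are
equal -/
def F11 : Prop := ∀ (P E : Subgroup G), Γ.Pt P → El E → (∀ u ∈ E, u ≠ 1 → Γ.A u) →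
  E ≤ Subgroup.normalizer (P : Set G) → ∀ b b', b ∈ E → b' ∈ E → b ∈ P → b' ∈ P → b ≠ 1 →
  b' ≠ 1 → b ≠ b' → ¬ TyA Γ b b' → ∀ w w', w ∈ E → w' ∈ E → w ∉ P → w' ∉ P → w * w' ∉ P →
  KB Γ P w → KB Γ P w' → KB Γ P (w * w') → ∀ x x' x'', IsX Γ P w x → IsX Γ P w' x' →
  IsX Γ P (w * w') x'' → x ∈ E → x' ∈ E → x'' ∈ E → x = x'

/-- (F12) the group `W = F_w⟨w⟩` of order 16 for `w` of kind A -/
def F12 : Prop := ∀ P w, Γ.Pt P → KA Γ P w → ∃ X, Γ.Xc X ∧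
  (∀ g : G, (∀ u, u ∈ Ws Γ P w → g * u * g⁻¹ ∈ Ws Γ P w) → g ∈ Subgroup.normalizer (X : Set G)) ∧
  ∀ P', Γ.Pt P' → 8 ≤ (Ws Γ P w ∩ (P' : Set G)).ncard → Nat.card (P' ⊓ X : Subgroup G) = 64

/-- (F13) a 2B element `w` in `N(P)`: `P` meets the point of `w` -/
def F13 : Prop := ∀ P P' w, Γ.Pt P → Γ.Pt P' → w ∈ Subgroup.normalizer (P : Set G) → Γ.B w →
  w ∈ P' → P ⊓ P' ≠ ⊥

/-- (F14) points and groups `X` -/
structure F14 : Prop where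
  eq : ∀ P X X', Γ.Pt P → Γ.Xc X → Γ.Xc X' → Nat.card (P ⊓ X : Subgroup G) = 64 →
    Nat.card (P ⊓ X' : Subgroup G) = 64 → 32 ≤ Nat.card (P ⊓ X ⊓ X' : Subgroup G) → P ⊓ X = P ⊓ X'
  le : ∀ P P' X, Γ.Pt P → Γ.Pt P' → P ≠ P' → Γ.Xc X → Nat.card (P ⊓ X : Subgroup G) = 64 →
    Nat.card (P' ⊓ X : Subgroup G) = 64 → P ⊓ P' ≤ X
  uniq : ∀ P P' X X', Γ.Pt P → Γ.Pt P' → P ≠ P' → Γ.Xc X → Γ.Xc X' →
    Nat.card (P ⊓ X : Subgroup G) = 64 → Nat.card (P' ⊓ X : Subgroup G) = 64 →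
    P ⊓ X = P ⊓ X' → P' ⊓ X = P' ⊓ X' → X = X'

/-- (F16) an elementary abelian group with large intersection with a point `P` and large image -/
def F16 : Prop := ∀ P E : Subgroup G, Γ.Pt P → El E → E ≤ Subgroup.normalizer (P : Set G) →
  32 ≤ Nat.card (E ⊓ P : Subgroup G) → 8 * Nat.card (E ⊓ P : Subgroup G) ≤ Nat.card E →
  ∃ X, Γ.Xc X ∧ Subgroup.centralizer (E : Set G) ≤ X

/-- (F17) `|P ∩ N(P')| ≥ 32` implies that `P` and `P'` meet -/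
def F17 : Prop := ∀ P P', Γ.Pt P → Γ.Pt P' →
  32 ≤ Nat.card (P ⊓ Subgroup.normalizer (P' : Set G) : Subgroup G) → P ⊓ P' ≠ ⊥

/-- (F18) three commuting 2B elements whose points have trivial intersection -/
def F18 : Prop := ∀ a b c, Γ.B a → Γ.B b → Γ.B c → a * b = b * a → a * c = c * a → b * c = c * b →
  ∀ Pa Pb Pc, Γ.Pt Pa → Γ.Pt Pb → Γ.Pt Pc → a ∈ Pa → b ∈ Pb → c ∈ Pc → Pa ⊓ Pb ⊓ Pc = ⊥ →
  ∃ P K : Subgroup G, Γ.Pt P ∧ K ≤ P ∧ 32 ≤ Nat.card K ∧ (∃ t ∈ K, Γ.B t) ∧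
    ∀ x ∈ K, ∀ y, y * a = a * y → y * b = b * y → y * c = c * y → x * y = y * x

/-- all facts -/
structure Facts : Prop where
  f0 : F0 Γ
  f1 : F1 Γ
  f2 : F2 Γ
  f3 : F3 Γ
  f4 : F4 Γ
  f5 : F5 Γ
  f6 : F6 Γ
  f7 : F7 Γ
  f9 : F9 Γ
  f11 : F11 Γ
  f12 : F12 Γ
  f13 : F13 Γ
  f14 : F14 Γ
  f16 : F16 Γ
  f17 : F17 Γ
  f18 : F18 Γ

/-- the local situation: `M` maximal, `Q = O₂(M)`, `E = Ω₁(Z(Q))` -/
structure Loc (M Q E : Subgroup G) : Prop where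
  pgroup : IsPGroup 2 Q
  E_ne : E ≠ ⊥
  E_le : E ≤ Q
  el : El E
  cent : ∀ x ∈ Q, ∀ e ∈ E, x * e = e * x
  self : Subgroup.centralizer (Q : Set G) ≤ Q
  mem : ∀ e, e * e = 1 → (∀ x ∈ Q, x * e = e * x) → e ∈ E
  normQ : M ≤ Subgroup.normalizer (Q : Set G)
  normE : M ≤ Subgroup.normalizer (E : Set G)

/-- an `M`-invariant set of points -/
def Inv (M : Subgroup G) (S : Set (Subgroup G)) : Prop := ∀ m ∈ M, ∀ P ∈ S, cj m P ∈ S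

/-- (L3) an `M`-invariant set of points normalized by `Q`, pairwise meeting in lines, any three of
them meeting, with trivial total intersection -/
def L3 : Prop := ∀ (M Q E : Subgroup G), Loc M Q E → ∀ S : Set (Subgroup G), Inv M S →
  (∀ P ∈ S, Γ.Pt P ∧ Q ≤ Subgroup.normalizer (P : Set G)) →
  (∀ P ∈ S, ∀ P' ∈ S, P ≠ P' → Γ.Ln (P ⊓ P')) →
  (∀ P ∈ S, ∀ P' ∈ S, ∀ P'' ∈ S, P ⊓ P' ⊓ P'' ≠ ⊥) → (∃ P ∈ S, ∃ P' ∈ S, P ≠ P') →
  sInf S = ⊥ → Good Γ M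

/-- (LL) an `M`-invariant nontrivial subgroup of a line -/
def LL : Prop := ∀ (M R D : Subgroup G), Γ.Ln D → R ≤ D → R ≠ ⊥ →
  M ≤ Subgroup.normalizer (R : Set G) → Good Γ M

/-- (PT) an `M`-invariant set of points with nontrivial total intersection -/
def PT : Prop := ∀ (M : Subgroup G) (S : Set (Subgroup G)), Inv M S → (∀ P ∈ S, Γ.Pt P) →
  S.Nonempty → sInf S ≠ ⊥ → Good Γ M

/-- (case A) `E` is pure 2A -/
def CaseA : Prop := ∀ (M Q E : Subgroup G), Loc M Q E → (∀ u ∈ E, u ≠ 1 → Γ.A u) → Good Γ M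

/-- (case B) `E` contains 2B elements -/
def CaseB : Prop := ∀ (M Q E : Subgroup G), Loc M Q E → (∃ u ∈ E, Γ.B u) → Good Γ M

end Cfsg.Agent.H860.JM
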